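import Groth.Agent.PSPurityLib.Descent
import Groth.Agent.PSPurityLib.Open
import Groth.Agent.DepthLib.FlatDepth
import Groth.Agent.PunctLefLib.Extend

/-! # Extensions of covers along faithfully flat maps with invisible complement -/

set_option autoImplicit false
set_option linter.style.haveILetI false
set_option backward.isDefEq.respectTransparency false
set_option backward.isDefEq.respectTransparency.types false
set_option maxHeartbeats 1000000

universe u

open CategoryTheory CategoryTheory.Limits AlgebraicGeometry TopologicalSpace IsLocalRing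

noncomputable section

namespace PurSmooth

/-- An extension after a faithfully flat base change gives one, when the new boundary has depth two. -/
theorem exists_extension_of_faithfullyFlat {A Ah : Type u} [CommRing A] [CommRing Ah] [Algebra A Ah]
    [IsNoetherianRing A] [IsNoetherianRing Ah] [Module.FaithfullyFlat A Ah]
    (U : (Spec (CommRingCat.of A)).Opens)
    (hdepth : ∀ y : PrimeSpectrum Ah, PrimeSpectrum.comap (algebraMap A Ah) y ∉ U →
      (2 : ℕ∞) ≤ LocCoh.depth (Localization.AtPrime y.asIdeal) (Localization.AtPrime y.asIdeal))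
    (V : FEt.Cat (U : Scheme.{u})) (Y' : FEt.Cat (Spec (CommRingCat.of Ah)))
    (e' : (FEt.restrict (pullback.snd U.ι (Spec.map (CommRingCat.ofHom (algebraMap A Ah))))).obj Y' ≅
      (FEt.restrict (pullback.fst U.ι (Spec.map (CommRingCat.ofHom (algebraMap A Ah))))).obj V) :
    ∃ Y : FEt.Cat (Spec (CommRingCat.of A)), Nonempty ((FEt.restrict U.ι).obj Y ≅ V) := by
  let g : Spec (CommRingCat.of Ah) ⟶ Spec (CommRingCat.of A) := Spec.map (CommRingCat.ofHom (algebraMap A Ah))
  let r := pullback.fst U.ι g
  let s := pullback.snd U.ι g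
  let y : Y'.left ⟶ Spec (CommRingCat.of Ah) := Y'.hom
  haveI : Etale y := Y'.prop.2
  have sqj : IsPullback (e'.inv.left ≫ pullback.fst y s) (pullback.snd V.hom r) y s :=
    PurityGlueLib.isPullback_of_iso e'
  haveI : IsOpenImmersion s := MorphismProperty.pullback_snd _ _ (inferInstanceAs (IsOpenImmersion U.ι))
  haveI : IsOpenImmersion (e'.inv.left ≫ pullback.fst y s) :=
    MorphismProperty.of_isPullback (P := @IsOpenImmersion) sqj.flip inferInstance
  have hbij : Function.Bijective (e'.inv.left ≫ pullback.fst y s).appTop := by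
    refine PSPurity.appTop_bijective_of_invisible _ ?_
    have : (e'.inv.left ≫ pullback.fst y s).opensRange = y ⁻¹ᵁ g ⁻¹ᵁ U := by
      have hh : Set.range (e'.inv.left ≫ pullback.fst y s) = y ⁻¹' Set.range s := by
        rw [← sqj.isoPullback_hom_fst, Scheme.Hom.comp_base, TopCat.coe_comp, Set.range_comp,
          Set.range_eq_univ.2 sqj.isoPullback.hom.surjective, Set.image_univ, Scheme.Pullback.range_fst]
      refine TopologicalSpace.Opens.ext (hh.trans ?_)
      rw [Scheme.Pullback.range_snd, Scheme.Opens.range_ι]
      rfl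
    rw [this]
    exact PunctFEtLib.invisible_preimage y _ fun x hx =>
      le_of_le_of_eq (hdepth x hx) (PunctFEtLib.depth_stalk_spec Ah x).symm
  obtain ⟨Z, z, k, hz, hk⟩ := PSPurity.exists_isPullback_of_extends U V.hom V.prop y Y'.prop
    (IsPullback.of_hasPullback U.ι g) (IsPullback.of_hasPullback V.hom r) sqj hbij
  exact ⟨MorphismProperty.Over.mk ⊤ z hz, PurityGlueLib.nonempty_iso_of_isPullback hk⟩

/-- Points over the closed point of a base of depth two have depth two in flat algebras. -/
theorem two_le_depth_of_flat {A R : Type u} [CommRing A] [IsNoetherianRing A] [IsLocalRing A] [CommRing R]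
    [IsNoetherianRing R] [Algebra A R] [Module.Flat A R] (hA : (2 : ℕ∞) ≤ LocCoh.depth A A)
    (q : PrimeSpectrum R) (hq : q.asIdeal.comap (algebraMap A R) = maximalIdeal A) :
    (2 : ℕ∞) ≤ LocCoh.depth (Localization.AtPrime q.asIdeal) (Localization.AtPrime q.asIdeal) := by
  let S := Localization.AtPrime q.asIdeal
  haveI : Module.Flat A S := Module.Flat.trans A R S
  haveI : IsLocalHom (algebraMap A S) := ⟨fun a ha => by
    by_contra hn
    rw [IsScalarTower.algebraMap_apply A R S] at ha
    exact (IsLocalization.AtPrime.to_map_mem_maximal_iff S q.asIdeal _).2 (hq.ge hn :) ha⟩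
  haveI : IsNoetherianRing S := IsLocalization.isNoetherianRing q.asIdeal.primeCompl S inferInstance
  haveI : IsLocalRing (GorLib.Fib A S) := GorLib.isLocalRing_quotient (GorLib.map_maximalIdeal_ne_top _ _)
  exact DepthLib.add_le_depth A S (a := 2) (b := 0) hA (zero_le)

theorem comap_eq_of_notMem_puncturedSpec {A R : Type u} [CommRing A] [IsLocalRing A] [CommRing R] [Algebra A R]
    (q : PrimeSpectrum R)
    (hq : ¬ PrimeSpectrum.comap (algebraMap A R) q ≠ closedPoint A) :
    q.asIdeal.comap (algebraMap A R) = maximalIdeal A :=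
  congrArg PrimeSpectrum.asIdeal (not_not.1 hq)

/-- Restriction to an open with boundary of depth two is fully faithful. -/
theorem full_faithful_of_depth {R : Type u} [CommRing R] [IsNoetherianRing R] (U : (Spec (CommRingCat.of R)).Opens)
    (hdepth : ∀ y : Spec (CommRingCat.of R), y ∉ U →
      (2 : ℕ∞) ≤ LocCoh.depth (Localization.AtPrime y.asIdeal) (Localization.AtPrime y.asIdeal)) :
    (FEt.restrict U.ι).Full ∧ (FEt.restrict U.ι).Faithful :=
  PunctFEtLib.restrict_full_faithful U fun Y => by
    haveI : Etale Y.hom := Y.prop.2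
    exact PunctFEtLib.invisible_preimage (X := Spec (CommRingCat.of R)) Y.hom _ fun x hx =>
      le_of_le_of_eq (hdepth x hx) (PunctFEtLib.depth_stalk_spec R x).symm

end PurSmooth
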