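import Groth.Agent.PurSmoothLib.PowerSeries

/-! # Extension of covers through a faithfully flat power series cover -/

set_option autoImplicit false
set_option linter.style.haveILetI false
set_option backward.isDefEq.respectTransparency false
set_option backward.isDefEq.respectTransparency.types false
set_option maxHeartbeats 1000000

universe u

open CategoryTheory CategoryTheory.Limits AlgebraicGeometry TopologicalSpace IsLocalRing

noncomputable section

namespace PurSmooth

/-- `R` embeds faithfully flatly into power series over a depth two extension of `A` with the same closed fibre. -/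
def HasPSCover (A R : Type u) [CommRing A] [IsLocalRing A] [CommRing R] [Algebra A R] : Prop :=
  ∃ (Ag : Type u) (_ : CommRing Ag) (_ : IsLocalRing Ag) (_ : IsNoetherianRing Ag) (_ : Algebra A Ag) (d : ℕ)
    (φ : R →+* MvPowerSeries (Fin d) Ag),
    (maximalIdeal A).map (algebraMap A Ag) = maximalIdeal Ag ∧ (2 : ℕ∞) ≤ LocCoh.depth Ag Ag ∧
      φ.FaithfullyFlat ∧ ∀ a, φ (algebraMap A R a) = MvPowerSeries.C (algebraMap A Ag a)

theorem extends_of_hasPSCover {A R : Type u} [CommRing A] [IsNoetherianRing A] [IsLocalRing A] [CommRing R]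
    [IsNoetherianRing R] [Algebra A R] (hc : HasPSCover A R) (V : (Spec (CommRingCat.of R)).Opens)
    (hV1 : ∀ y : Spec (CommRingCat.of R), y.asIdeal.comap (algebraMap A R) ≠ maximalIdeal A → y ∈ V)
    (hV2 : ∃ y : Spec (CommRingCat.of R), y ∈ V ∧ (maximalIdeal A).map (algebraMap A R) ≤ y.asIdeal)
    (W : FEt.Cat (V : Scheme.{u})) :
    ∃ E : FEt.Cat (Spec (CommRingCat.of R)), Nonempty ((FEt.restrict V.ι).obj E ≅ W) := by
  obtain ⟨Ag, _, _, _, _, d, φ, hmax, hAg, hff, hcomm⟩ := hc
  obtain ⟨y₀, hy₀, hy₀le⟩ := hV2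
  let S := MvPowerSeries (Fin d) Ag
  haveI := CohenLib.isNoetherianRing_mvPowerSeries (n := d) Ag
  letI : Algebra R S := φ.toAlgebra
  haveI : Module.FaithfullyFlat R S := hff
  let g : Spec (CommRingCat.of S) ⟶ Spec (CommRingCat.of R) := Spec.map (CommRingCat.ofHom (algebraMap R S))
  let VS := g ⁻¹ᵁ V
  have hgen : ∀ y : PrimeSpectrum S, y.asIdeal.comap φ ∈ ({I | I.comap (algebraMap A R) = maximalIdeal A} : Set (Ideal R)) →
      PSPurity.genPt Ag d ≤ y.asIdeal := fun y hy => by
    rw [PSPurity.genPt, ← hmax, Ideal.map_map, Ideal.map_le_iff_le_comap]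
    intro a ha
    show MvPowerSeries.C (algebraMap A Ag a) ∈ y.asIdeal
    rw [← hcomm]
    exact hy.ge ha
  have h1 : PSPurity.VA Ag d ≤ VS := fun y hy => by
    by_contra hn
    apply hy
    have hle := hgen y (Classical.byContradiction fun h => hn (hV1 (g y) h))
    rw [PSPurity.genPt, Ideal.map_le_iff_le_comap] at hle
    exact PrimeSpectrum.ext ((maximalIdeal.isMaximal Ag).eq_of_le (Ideal.IsPrime.ne_top inferInstance) hle).symm
  have h2 : (⟨PSPurity.genPt Ag d, inferInstance⟩ : PrimeSpectrum S) ∈ (VS : Set ↥(Spec (CommRingCat.of S))) := by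
    show g ⟨PSPurity.genPt Ag d, inferInstance⟩ ∈ (V : Set ↥(Spec (CommRingCat.of R)))
    refine Specializes.mem_open ((PrimeSpectrum.le_iff_specializes (g ⟨PSPurity.genPt Ag d, inferInstance⟩) y₀).1 ?_) V.2 hy₀
    refine (PrimeSpectrum.asIdeal_le_asIdeal (g ⟨PSPurity.genPt Ag d, inferInstance⟩) y₀).1 (le_trans (le_of_eq ?_) hy₀le)
    show (PSPurity.genPt Ag d).comap (algebraMap R S) = _
    have : PSPurity.genPt Ag d = ((maximalIdeal A).map (algebraMap A R)).map (algebraMap R S) := by
      rw [PSPurity.genPt, ← hmax, Ideal.map_map, Ideal.map_map]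
      exact congrArg (Ideal.map · _) (RingHom.ext fun a => (hcomm a).symm)
    rw [this, Ideal.comap_map_eq_self_of_faithfullyFlat]
  let gV : (VS : Scheme.{u}) ⟶ V := g ∣_ V
  obtain ⟨E, ⟨eE⟩⟩ := powerSeries_extends Ag d hAg VS h1 h2 ((FEt.restrict gV).obj W)
  let r := pullback.fst V.ι g
  let s := pullback.snd V.ι g
  have hr : Set.range s ⊆ Set.range VS.ι := by
    rintro _ ⟨z, rfl⟩
    rw [Scheme.Opens.range_ι]
    show g (s z) ∈ V
    rw [← Scheme.Hom.comp_apply, ← pullback.condition, Scheme.Hom.comp_apply]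
    exact (r z).2
  let lam := IsOpenImmersion.lift VS.ι s hr
  have hlam : lam ≫ VS.ι = s := IsOpenImmersion.lift_fac _ _ _
  have hsq : lam ≫ gV = r := by
    rw [← cancel_mono V.ι, Category.assoc, morphismRestrict_ι, reassoc_of% hlam]
    exact pullback.condition.symm
  refine exists_extension_of_faithfullyFlat V (fun y hy => ?_) W E
    (PunctLefLib.restrictCongr hlam.symm E ≪≫ (PunctLefLib.restrictComp lam VS.ι E).symm ≪≫
      (FEt.restrict lam).mapIso eE ≪≫ PunctLefLib.restrictComp lam gV W ≪≫ PunctLefLib.restrictCongr hsq W)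
  exact PSPurity.two_le_depth_of_genPt_le Ag d hAg y.asIdeal
    (hgen y (Classical.byContradiction fun h => hy (hV1 (g y) h)))

end PurSmooth
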