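import Groth.Agent.PurSmoothLib.Stalk

/-! # Purity for smooth schemes over a base of depth two -/

set_option autoImplicit false
set_option linter.style.haveILetI false
set_option backward.isDefEq.respectTransparency false
set_option backward.isDefEq.respectTransparency.types false
set_option maxHeartbeats 1000000

universe u

open CategoryTheory CategoryTheory.Limits AlgebraicGeometry TopologicalSpace IsLocalRing

noncomputable section

namespace PurSmooth

/-- A point in the fibrewise closure of an open generizes inside its fibre into the open. -/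
theorem exists_specializes_fibre {X S : Scheme.{u}} (f : X ⟶ S) [LocallyOfFiniteType f] (U : X.Opens) (x : X)
    (hx : x ∈ closure ((U : Set X) ∩ f.base ⁻¹' {f x})) : ∃ y : X, f y = f x ∧ y ∈ U ∧ y ⤳ x := by
  let ι := f.fiberι (f x)
  haveI : LocallyOfFiniteType (f.fiberToSpecResidueField (f x)) :=
    MorphismProperty.pullback_snd _ _ ‹LocallyOfFiniteType f›
  haveI : IsLocallyNoetherian (f.fiber (f x)) :=
    LocallyOfFiniteType.isLocallyNoetherian (f.fiberToSpecResidueField (f x))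
  obtain ⟨x₀, hx₀⟩ : x ∈ Set.range ι := by rw [f.range_fiberι]; exact rfl
  haveI : QuasiCompact (ι ⁻¹ᵁ U).ι := inferInstance
  have hcl : x₀ ∈ closure (Set.range (ι ⁻¹ᵁ U).ι) := by
    rw [Scheme.Opens.range_ι, ι.isEmbedding.closure_eq_preimage_closure_image, Set.mem_preimage, hx₀]
    refine closure_mono (fun w hw => ?_) hx
    obtain ⟨z, rfl⟩ : w ∈ Set.range ι := by rw [f.range_fiberι]; exact hw.2
    exact ⟨z, hw.1, rfl⟩
  obtain ⟨z, hz⟩ := FFDescLib.exists_specializes_of_mem_closure_range (ι ⁻¹ᵁ U).ι hcl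
  have hz' := hz.map ι.continuous
  rw [hx₀] at hz'
  refine ⟨ι ((ι ⁻¹ᵁ U).ι z), ?_, z.2, hz'⟩
  have h : ι ((ι ⁻¹ᵁ U).ι z) ∈ Set.range ι := ⟨_, rfl⟩
  rw [f.range_fiberι] at h
  exact h

theorem purityHolds_stalk {X S : Scheme.{u}} (f : X ⟶ S) [Smooth f] [IsLocallyNoetherian S] (x y : X) (hy : y ⤳ x)
    (hfy : f y = f x) (hne : y ≠ x)
    (hd : (2 : ℕ∞) ≤ LocCoh.depth (S.presheaf.stalk (f x)) (S.presheaf.stalk (f x))) :
    FEt.PurityHolds (X.presheaf.stalk x) ∧ (2 : ℕ∞) ≤ LocCoh.depth (X.presheaf.stalk x) (X.presheaf.stalk x) := by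
  haveI : IsLocallyNoetherian X := LocallyOfFiniteType.isLocallyNoetherian f
  obtain ⟨U, hU, hxU, -⟩ := exists_isAffineOpen_mem_and_subset (X := S) (x := f x) (U := ⊤) trivial
  obtain ⟨V, hV, hxV, hVU⟩ := exists_isAffineOpen_mem_and_subset (X := X) (x := x) (U := f ⁻¹ᵁ U) hxU
  have hsm : (f.appLE U V hVU).hom.Smooth := HasRingHomProperty.appLE @Smooth f ‹_› ⟨U, hU⟩ ⟨V, hV⟩ hVU
  have hyV : y ∈ V := hy.mem_open V.2 hxV
  letI := (f.appLE U V hVU).hom.toAlgebra
  haveI : Algebra.Smooth Γ(S, U) Γ(X, V) := hsm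
  haveI : IsNoetherianRing Γ(S, U) := IsLocallyNoetherian.component_noetherian ⟨U, hU⟩
  let p₀ := (hU.primeIdealOf ⟨f x, hVU hxV⟩).asIdeal
  let q₀ := (hV.primeIdealOf ⟨x, hxV⟩).asIdeal
  let q₁ := (hV.primeIdealOf ⟨y, hyV⟩).asIdeal
  have hq₀ : q₀.comap (algebraMap Γ(S, U) Γ(X, V)) = p₀ :=
    congrArg PrimeSpectrum.asIdeal (IsAffineOpen.comap_primeIdealOf_appLE U hU V hV hVU hxV)
  have hq₁ : q₁.comap (algebraMap Γ(S, U) Γ(X, V)) = p₀ :=
    (congrArg PrimeSpectrum.asIdeal (IsAffineOpen.comap_primeIdealOf_appLE U hU V hV hVU hyV)).trans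
      (congrArg (fun w => (hU.primeIdealOf w).asIdeal) (Subtype.ext hfy))
  have hlt : q₁ < q₀ := by
    refine lt_of_le_of_ne ((PrimeSpectrum.asIdeal_le_asIdeal _ _).2 ((PrimeSpectrum.le_iff_specializes _ _).2 ?_)) fun h => hne ?_
    · rw [← hV.fromSpec.isOpenEmbedding.isInducing.specializes_iff, hV.fromSpec_primeIdealOf, hV.fromSpec_primeIdealOf]
      exact hy
    · exact (hV.fromSpec_primeIdealOf ⟨y, hyV⟩).symm.trans
        ((congrArg hV.fromSpec (PrimeSpectrum.ext h)).trans (hV.fromSpec_primeIdealOf ⟨x, hxV⟩))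
  letI := TopCat.Presheaf.algebra_section_stalk S.presheaf (⟨f x, hVU hxV⟩ : U)
  haveI := hU.isLocalization_stalk ⟨f x, hVU hxV⟩
  haveI : IsNoetherianRing (Localization.AtPrime p₀) := IsLocalization.isNoetherianRing p₀.primeCompl _ inferInstance
  let eS : Localization.AtPrime p₀ ≃+* S.presheaf.stalk (f x) :=
    (IsLocalization.algEquiv p₀.primeCompl (Localization.AtPrime p₀) (S.presheaf.stalk (f x))).toRingEquiv
  have hd' : (2 : ℕ∞) ≤ LocCoh.depth (Localization.AtPrime p₀) (Localization.AtPrime p₀) :=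
    (DepthLib.depth_congr_ringEquiv (R := Localization.AtPrime p₀) (S := S.presheaf.stalk (f x)) eS).symm ▸ hd
  obtain ⟨hp, hdX⟩ := purityHolds_of_smooth_depth q₀ q₁ p₀ hq₀ hq₁ hlt hd'
  letI := TopCat.Presheaf.algebra_section_stalk X.presheaf (⟨x, hxV⟩ : V)
  haveI := hV.isLocalization_stalk ⟨x, hxV⟩
  haveI : IsNoetherianRing Γ(X, V) := IsLocallyNoetherian.component_noetherian ⟨V, hV⟩
  haveI : IsNoetherianRing (Localization.AtPrime q₀) := IsLocalization.isNoetherianRing q₀.primeCompl _ inferInstance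
  let eX : Localization.AtPrime q₀ ≃+* X.presheaf.stalk x :=
    (IsLocalization.algEquiv q₀.primeCompl (Localization.AtPrime q₀) (X.presheaf.stalk x)).toRingEquiv
  exact ⟨PurityGlueLib.purityHolds_of_ringEquiv eX hp,
    (DepthLib.depth_congr_ringEquiv (R := Localization.AtPrime q₀) (S := X.presheaf.stalk x) eX) ▸ hdX⟩

theorem restrict_isEquivalence_of_smooth {X S : Scheme.{u}} (f : X ⟶ S) [Smooth f] [IsLocallyNoetherian S] (U : X.Opens)
    (h3 : ∀ s : S, LocCoh.depth (S.presheaf.stalk s) (S.presheaf.stalk s) ≤ 1 → f.base ⁻¹' {s} ⊆ (U : Set X))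
    (h4 : ∀ s : S, f.base ⁻¹' {s} ⊆ closure ((U : Set X) ∩ f.base ⁻¹' {s})) :
    (FEt.restrict U.ι).IsEquivalence := by
  haveI : IsLocallyNoetherian X := LocallyOfFiniteType.isLocallyNoetherian f
  have key : ∀ x : X, x ∉ U → FEt.PurityHolds (X.presheaf.stalk x) ∧
      (2 : ℕ∞) ≤ LocCoh.depth (X.presheaf.stalk x) (X.presheaf.stalk x) := fun x hx => by
    obtain ⟨y, hfy, hyU, hy⟩ := exists_specializes_fibre f U x (h4 (f x) rfl)
    refine purityHolds_stalk f x y hy hfy (fun h => hx (h ▸ hyU)) ?_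
    have h : ¬ LocCoh.depth (S.presheaf.stalk (f x)) (S.presheaf.stalk (f x)) ≤ 1 := fun h => hx (h3 (f x) h rfl)
    exact Order.add_one_le_of_lt (not_le.1 h)
  exact PurityGlueLib.isEquivalence_of_purity U (fun x hx => (key x hx).2) fun x hx => (key x hx).1

end PurSmooth
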