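import Groth.Agent.PurSmoothLib.Popescu
import Groth.Agent.AdicFSLib.Completion
import Groth.Agent.GeomRedFibLib.CplMap
import Mathlib.RingTheory.MvPowerSeries.NoZeroDivisors

/-! # Purity for adically formally smooth algebras over local rings of depth two -/

set_option autoImplicit false
set_option linter.style.haveILetI false
set_option backward.isDefEq.respectTransparency false
set_option backward.isDefEq.respectTransparency.types false
set_option maxHeartbeats 1000000

universe u

open CategoryTheory CategoryTheory.Limits AlgebraicGeometry TopologicalSpace IsLocalRing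

noncomputable section

namespace PurSmooth

/-- Extension of covers descends along a faithfully flat map when the boundary upstairs has depth two. -/
theorem extends_of_extends_faithfullyFlat {B Bh : Type u} [CommRing B] [CommRing Bh] [Algebra B Bh]
    [IsNoetherianRing B] [IsNoetherianRing Bh] [Module.FaithfullyFlat B Bh]
    (V : (Spec (CommRingCat.of B)).Opens)
    (hdepth : ∀ y : PrimeSpectrum Bh, PrimeSpectrum.comap (algebraMap B Bh) y ∉ V →
      (2 : ℕ∞) ≤ LocCoh.depth (Localization.AtPrime y.asIdeal) (Localization.AtPrime y.asIdeal))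
    (hext : ∀ W' : FEt.Cat ((Spec.map (CommRingCat.ofHom (algebraMap B Bh)) ⁻¹ᵁ V : Scheme.Opens _) : Scheme.{u}),
      ∃ E : FEt.Cat (Spec (CommRingCat.of Bh)),
        Nonempty ((FEt.restrict (Spec.map (CommRingCat.ofHom (algebraMap B Bh)) ⁻¹ᵁ V).ι).obj E ≅ W'))
    (W : FEt.Cat (V : Scheme.{u})) :
    ∃ E : FEt.Cat (Spec (CommRingCat.of B)), Nonempty ((FEt.restrict V.ι).obj E ≅ W) := by
  let g : Spec (CommRingCat.of Bh) ⟶ Spec (CommRingCat.of B) := Spec.map (CommRingCat.ofHom (algebraMap B Bh))
  let VS := g ⁻¹ᵁ V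
  let gV : (VS : Scheme.{u}) ⟶ V := g ∣_ V
  obtain ⟨E, ⟨eE⟩⟩ := hext ((FEt.restrict gV).obj W)
  let r := pullback.fst V.ι g
  let s := pullback.snd V.ι g
  have hr : Set.range s ⊆ Set.range VS.ι := by
    rintro _ ⟨z, rfl⟩
    rw [Scheme.Opens.range_ι]
    show g (s z) ∈ V
    rw [← Scheme.Hom.comp_apply, ← pullback.condition, Scheme.Hom.comp_apply]
    exact (r z).2
  let lam := IsOpenImmersion.lift VS.ι s hr
  have hlam : lam ≫ VS.ι = s := IsOpenImmersion.lift_fac _ _ _
  have hsq : lam ≫ gV = r := by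
    rw [← cancel_mono V.ι, Category.assoc, morphismRestrict_ι, reassoc_of% hlam]
    exact pullback.condition.symm
  exact exists_extension_of_faithfullyFlat V hdepth W E
    (PunctLefLib.restrictCongr hlam.symm E ≪≫ (PunctLefLib.restrictComp lam VS.ι E).symm ≪≫
      (FEt.restrict lam).mapIso eE ≪≫ PunctLefLib.restrictComp lam gV W ≪≫ PunctLefLib.restrictCongr hsq W)

theorem isEquivalence_of_full_faithful_extends {X : Scheme.{u}} (V : X.Opens)
    (hff : (FEt.restrict V.ι).Full ∧ (FEt.restrict V.ι).Faithful)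
    (hext : ∀ W : FEt.Cat (V : Scheme.{u}), ∃ E : FEt.Cat X, Nonempty ((FEt.restrict V.ι).obj E ≅ W)) :
    (FEt.restrict V.ι).IsEquivalence := by
  obtain ⟨_, _⟩ := hff
  haveI : (FEt.restrict V.ι).EssSurj := ⟨fun W => hext W⟩
  exact {}

/-- Purity for an adically formally smooth local algebra over a local ring of depth two. -/
theorem restrict_isEquivalence_of_adicFS {A B : Type u} [CommRing A] [IsNoetherianRing A] [IsLocalRing A]
    [CommRing B] [IsNoetherianRing B] [IsLocalRing B] [Algebra A B] [IsLocalHom (algebraMap A B)]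
    (hdepth : (2 : ℕ∞) ≤ LocCoh.depth A A)
    (hfs : CAlgX.IsAdicFormallySmooth A B (maximalIdeal B)) (V : (Spec (CommRingCat.of B)).Opens)
    (hV1 : ∀ q : PrimeSpectrum B, q.asIdeal.comap (algebraMap A B) ≠ maximalIdeal A → q ∈ V)
    (hV2 : ∀ q : PrimeSpectrum B, q.asIdeal = (maximalIdeal A).map (algebraMap A B) → q ∈ V) :
    (FEt.restrict V.ι).IsEquivalence := by
  haveI : Module.Flat A B := AdicFSLib.flat_of_adicFS hfs
  have hV1' : ∀ q : PrimeSpectrum B, q ∉ V → q.asIdeal.comap (algebraMap A B) = maximalIdeal A :=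
    fun q hq => Classical.byContradiction fun h => hq (hV1 q h)
  refine isEquivalence_of_full_faithful_extends V
    (full_faithful_of_depth V fun y hy => two_le_depth_of_flat hdepth y (hV1' y hy)) fun W => ?_
  let Ah := GeomRedFibLib.Hat A
  let Bh := GeomRedFibLib.Hat B
  haveI : IsNoetherianRing Ah := AdicRingLib.isNoetherianRing_adicCompletion _
  haveI : IsNoetherianRing Bh := AdicRingLib.isNoetherianRing_adicCompletion _
  haveI : Module.FaithfullyFlat A Ah := GeomRedFibLib.faithfullyFlat_hat A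
  haveI : Module.FaithfullyFlat B Bh := GeomRedFibLib.faithfullyFlat_hat B
  haveI : IsAdicComplete (maximalIdeal Bh) Bh := by
    rw [AdicCompletion.maximalIdeal_eq_map]
    exact (IsAdicComplete.map_algebraMap_iff _ _).mpr (AdicCompletion.isAdicComplete (IsNoetherian.noetherian _))
  haveI : IsAdicComplete (maximalIdeal Ah) Ah := by
    rw [AdicCompletion.maximalIdeal_eq_map]
    exact (IsAdicComplete.map_algebraMap_iff _ _).mpr (AdicCompletion.isAdicComplete (IsNoetherian.noetherian _))
  obtain ⟨ψ, hψ⟩ := GeomRedFibLib.exists_cplMap A B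
  letI : Algebra Ah Bh := ψ.toAlgebra
  haveI : IsScalarTower A Ah Bh :=
    .of_algebraMap_eq fun a => RingHom.congr_fun (GeomRedFibLib.comp_eq ψ hψ).symm a
  haveI : IsLocalHom (algebraMap Ah Bh) := GeomRedFibLib.isLocalHom_cplMap ψ hψ
  haveI : IsLocalHom (algebraMap A Bh) := by
    rw [IsScalarTower.algebraMap_eq A B Bh]
    exact RingHom.isLocalHom_comp _ _
  haveI : Module.Flat A Bh := Module.Flat.trans A B Bh
  have h1 := AdicFSLib.adicFS_cpl_target hfs
  have hreg : CAlg.IsRegularHom Ah Bh :=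
    AdicFSLib.isRegularHom_of_adicFS_complete (AdicFSLib.adicFS_cpl_source h1)
  haveI : IsLocalRing (GorLib.Fib A Ah) := GorLib.isLocalRing_quotient (GorLib.map_maximalIdeal_ne_top _ _)
  have hAh : (2 : ℕ∞) ≤ LocCoh.depth Ah Ah := DepthLib.add_le_depth A Ah (a := 2) (b := 0) hdepth (zero_le)
  -- the generic point of the closed fibre
  obtain ⟨K, _, d, ⟨e⟩⟩ := AdicFSLib.exists_fibre_powerSeries h1
  haveI : IsDomain (MvPowerSeries (Fin d) K) := NoZeroDivisors.to_isDomain _
  haveI : IsDomain ((maximalIdeal A).Fiber Bh) := e.toMulEquiv.isDomain (MvPowerSeries (Fin d) K)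
  let P : Ideal Bh := (maximalIdeal A).map (algebraMap A Bh)
  haveI : P.IsPrime := by
    show ((maximalIdeal A).map (algebraMap A Bh)).IsPrime
    rw [← AdicFSLib.ker_toFibre A Bh]
    exact RingHom.ker_isPrime _
  let g : Spec (CommRingCat.of Bh) ⟶ Spec (CommRingCat.of B) := Spec.map (CommRingCat.ofHom (algebraMap B Bh))
  have hbdry : ∀ y : PrimeSpectrum Bh, PrimeSpectrum.comap (algebraMap B Bh) y ∉ V →
      y.asIdeal.comap (algebraMap A Bh) = maximalIdeal A := fun y hy => by
    rw [IsScalarTower.algebraMap_eq A B Bh, ← Ideal.comap_comap]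
    exact hV1' _ hy
  refine extends_of_extends_faithfullyFlat V (fun y hy => two_le_depth_of_flat hdepth y (hbdry y hy)) (fun W' => ?_) W
  refine extends_of_regular hAh hreg (g ⁻¹ᵁ V) (fun y hy => Classical.byContradiction fun hn => hy ?_)
    ⟨⟨P, inferInstance⟩, hV2 _ ?_, le_of_eq ?_⟩ W'
  · refine ((maximalIdeal.isMaximal Ah).eq_of_le (Ideal.IsPrime.ne_top inferInstance) ?_).symm
    rw [AdicCompletion.maximalIdeal_eq_map, Ideal.map_le_iff_le_comap, Ideal.comap_comap,
      ← IsScalarTower.algebraMap_eq A Ah Bh]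
    exact (hbdry y hn).ge
  · show P.comap (algebraMap B Bh) = _
    show ((maximalIdeal A).map (algebraMap A Bh)).comap (algebraMap B Bh) = _
    rw [IsScalarTower.algebraMap_eq A B Bh, ← Ideal.map_map, Ideal.comap_map_eq_self_of_faithfullyFlat]
  · show (maximalIdeal Ah).map (algebraMap Ah Bh) = (maximalIdeal A).map (algebraMap A Bh)
    rw [AdicCompletion.maximalIdeal_eq_map, Ideal.map_map, ← IsScalarTower.algebraMap_eq A Ah Bh]

end PurSmooth
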