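import Groth.Agent.Unram17Lib.CompletionSection
import Mathlib.RingTheory.Smooth.Kaehler
import Mathlib.RingTheory.Smooth.Locus

/-! # The conormal module of a section of a smooth algebra over a local ring is free -/

set_option autoImplicit false
set_option linter.style.haveILetI false
set_option backward.isDefEq.respectTransparency false
set_option backward.isDefEq.respectTransparency.types false
set_option maxHeartbeats 1000000

universe u

open KaehlerDifferential TensorProduct

noncomputable section

namespace PurSmooth

theorem exists_cotangent_basis {R S : Type u} [CommRing R] [IsLocalRing R] [CommRing S] [Algebra R S]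
    [Algebra.Smooth R S] (σ : S →ₐ[R] R) :
    ∃ d : ℕ, Nonempty ((RingHom.ker σ.toRingHom).Cotangent ≃ₗ[R] (Fin d → R)) := by
  letI : Algebra S R := σ.toRingHom.toAlgebra
  haveI : IsScalarTower R S R := .of_algebraMap_eq fun r => (σ.commutes r).symm
  have hsurj : Function.Surjective (algebraMap S R) := fun r => ⟨algebraMap R S r, σ.commutes r⟩
  let g : R →ₐ[R] S ⧸ RingHom.ker (algebraMap S R) ^ 2 := Algebra.ofId R _
  have hg : (IsScalarTower.toAlgHom R S R).kerSquareLift.comp g = AlgHom.id R R := Subsingleton.elim _ _
  obtain ⟨l, hl⟩ := (retractionKerCotangentToTensorEquivSection (R := R) (P := S) (S := R) hsurj).symm ⟨g, hg⟩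
  let lR := l.restrictScalars R
  let iR := (kerCotangentToTensor R S R).restrictScalars R
  have hli : lR ∘ₗ iR = LinearMap.id := LinearMap.ext fun x => LinearMap.congr_fun hl x
  haveI : Module.Projective R ((RingHom.ker (algebraMap S R)).Cotangent) :=
    Module.Projective.of_split iR lR hli
  haveI : Module.Finite R ((RingHom.ker (algebraMap S R)).Cotangent) :=
    Module.Finite.of_surjective lR fun x => ⟨iR x, LinearMap.congr_fun hli x⟩
  haveI : Module.Free R ((RingHom.ker (algebraMap S R)).Cotangent) := Module.free_of_flat_of_isLocalRing
  exact ⟨_, ⟨(Module.finBasis R ((RingHom.ker (algebraMap S R)).Cotangent)).equivFun⟩⟩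

end PurSmooth
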