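import Groth.Agent.PurSmoothLib.Core
import Groth.Agent.PurSmoothLib.Section
import Groth.Agent.GonfLib.Residue
import Groth.Agent.S0536
import Groth.Agent.AdicRingLib.Completion

/-! # Power series covers of the local rings of smooth algebras -/

set_option autoImplicit false
set_option linter.style.haveILetI false
set_option backward.isDefEq.respectTransparency false
set_option backward.isDefEq.respectTransparency.types false
set_option maxHeartbeats 1000000

universe u

open IsLocalRing TensorProduct

noncomputable section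

namespace PurSmooth

theorem hasPSCover_of_smooth (A : Type u) [CommRing A] [IsNoetherianRing A] [IsLocalRing A]
    (hA : (2 : ℕ∞) ≤ LocCoh.depth A A) (D : Type u) [CommRing D] [Algebra A D] [Algebra.Smooth A D]
    (q : Ideal D) [q.IsPrime] (hq : q.comap (algebraMap A D) = maximalIdeal A) :
    HasPSCover A (Localization.AtPrime q) := by
  let K := q.ResidueField
  have hk : RingHom.ker (algebraMap A K) = maximalIdeal A := by
    rw [IsScalarTower.algebraMap_eq A D K, ← RingHom.comap_ker, Ideal.ker_algebraMap_residueField, hq]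
  obtain ⟨Ag, _, _, _, _, ψ, hflat, hmap, hs, hker, hN⟩ := GonfLib.exists_local_extension A K hk
  haveI := hN inferInstance
  haveI := hflat
  let Ah := AdicCompletion (maximalIdeal Ag) Ag
  have hfg : (maximalIdeal Ag).FG := IsNoetherian.noetherian _
  haveI : IsNoetherianRing Ah := AdicRingLib.isNoetherianRing_adicCompletion _
  haveI : Module.FaithfullyFlat Ag Ah := Module.FaithfullyFlat.of_flat_of_isLocalHom
  haveI : Module.Flat A Ah := Module.Flat.trans A Ag Ah
  have hmaxh : (maximalIdeal Ag).map (algebraMap Ag Ah) = maximalIdeal Ah :=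
    (AdicCompletion.maximalIdeal_eq_map (R := Ag)).symm
  have hmaxA : (maximalIdeal A).map (algebraMap A Ah) = maximalIdeal Ah := by
    rw [IsScalarTower.algebraMap_eq A Ag Ah, ← Ideal.map_map, hmap, hmaxh]
  haveI : IsLocalHom (algebraMap A Ah) := ((IsLocalRing.local_hom_TFAE (algebraMap A Ah)).out 0 2).2 hmaxA.le
  haveI : IsLocalRing (GorLib.Fib A Ah) := GorLib.isLocalRing_quotient (GorLib.map_maximalIdeal_ne_top _ _)
  have hdepth : (2 : ℕ∞) ≤ LocCoh.depth Ah Ah := DepthLib.add_le_depth A Ah (a := 2) (b := 0) hA (zero_le)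
  -- the residue map of the completion
  let eK : (Ag ⧸ maximalIdeal Ag) ≃ₐ[A] K :=
    (Ideal.quotientEquivAlgOfEq A hker.symm).trans (Ideal.quotientKerAlgEquivOfSurjective hs)
  let ψh : Ah →ₐ[A] K := eK.toAlgHom.comp ((AdicCompletion.evalOneₐ (maximalIdeal Ag)).restrictScalars A)
  have hψs : Function.Surjective ψh := fun z => by
    obtain ⟨a, ha⟩ := eK.surjective z
    obtain ⟨b, rfl⟩ := Ideal.Quotient.mk_surjective a
    refine ⟨algebraMap Ag Ah b, ?_⟩
    show eK (AdicCompletion.evalOneₐ (maximalIdeal Ag) (algebraMap Ag Ah b)) = z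
    rw [AlgHom.commutes]
    exact ha
  have hψker : RingHom.ker ψh.toRingHom = maximalIdeal Ah :=
    IsLocalRing.eq_maximalIdeal (RingHom.ker_isMaximal_of_surjective ψh.toRingHom hψs)
  -- a point over the given one
  let f₀ : D →ₐ[A] Ah ⧸ maximalIdeal Ah :=
    ((Ideal.quotientEquivAlgOfEq A hψker.symm).trans (Ideal.quotientKerAlgEquivOfSurjective hψs)).symm.toAlgHom.comp
      (IsScalarTower.toAlgHom A D K)
  haveI : IsAdicComplete (maximalIdeal Ah) Ah := by
    rw [← hmaxh]
    exact (IsAdicComplete.map_algebraMap_iff _ _).mpr (AdicCompletion.isAdicComplete hfg)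
  haveI : HenselianRing Ah (maximalIdeal Ah) := IsAdicComplete.henselianRing _ _
  obtain ⟨τ, hτ⟩ := Groth.Agent.S0536.result A D Ah (maximalIdeal Ah) f₀
  have hτq : ∀ s, τ s ∈ maximalIdeal Ah ↔ s ∈ q := fun s => by
    rw [← Ideal.Quotient.eq_zero_iff_mem, show Ideal.Quotient.mk (maximalIdeal Ah) (τ s) = f₀ s from AlgHom.congr_fun hτ s]
    refine (map_eq_zero_iff _ ((Ideal.quotientEquivAlgOfEq A hψker.symm).trans
      (Ideal.quotientKerAlgEquivOfSurjective hψs)).symm.injective).trans ?_
    exact Ideal.algebraMap_residueField_eq_zero (I := q) (x := s)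
  -- the completion along the section
  let S := Ah ⊗[A] D
  let σS : S →ₐ[Ah] Ah := Algebra.TensorProduct.lift (Algebra.ofId Ah Ah) τ fun _ _ => Commute.all _ _
  obtain ⟨d, ⟨e⟩⟩ := exists_cotangent_basis σS
  obtain ⟨e₂⟩ := Unram17Lib.adicCompletion_section_equiv σS d e
  haveI : Algebra.FiniteType Ah S := inferInstance
  haveI : IsNoetherianRing S := Algebra.FiniteType.isNoetherianRing Ah S
  let I : Ideal S := RingHom.ker σS.toRingHom
  haveI := AdicCompletion.flat_of_isNoetherian I
  letI : Algebra D S := Algebra.TensorProduct.rightAlgebra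
  haveI : Module.Flat D S := Module.Flat.isBaseChange (R := A) (S := D) (M := Ah) S
    (Algebra.IsPushout.out (R := A) (S := D) (R' := Ah) (S' := S))
  haveI := CohenLib.isNoetherianRing_mvPowerSeries (n := d) Ah
  let P := MvPowerSeries (Fin d) Ah
  let χ₁ : D →+* AdicCompletion I S := (algebraMap S (AdicCompletion I S)).comp (algebraMap D S)
  let χ : D →+* P := e₂.toRingEquiv.toRingHom.comp χ₁
  have hχflat : χ.Flat := ((RingHom.flat_algebraMap_iff.2 inferInstance).comp
    (RingHom.flat_algebraMap_iff.2 inferInstance)).comp (RingHom.Flat.of_bijective e₂.bijective)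
  have hI1 : ∀ x ∈ I, MvPowerSeries.constantCoeff (e₂ (algebraMap S (AdicCompletion I S) x)) ∈ maximalIdeal Ah := by
    intro x hx
    by_contra hu
    have h1 : IsUnit (e₂ (algebraMap S (AdicCompletion I S) x)) :=
      MvPowerSeries.isUnit_iff_constantCoeff.2 (notMem_maximalIdeal.1 hu)
    have h2 := ((isUnit_map_iff e₂ _).1 h1).map (AdicCompletion.evalOneₐ I)
    rw [AlgHom.commutes] at h2
    rw [Ideal.Quotient.algebraMap_eq, Ideal.Quotient.eq_zero_iff_mem.2 hx] at h2
    haveI : Nontrivial (S ⧸ I) := Ideal.Quotient.nontrivial_iff.2 (RingHom.ker_ne_top σS.toRingHom)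
    exact not_isUnit_zero h2
  have hcc : ∀ x : S, MvPowerSeries.constantCoeff (e₂ (algebraMap S (AdicCompletion I S) x)) - σS x ∈ maximalIdeal Ah := by
    intro x
    have hx : x - algebraMap Ah S (σS x) ∈ I := by
      show σS (x - algebraMap Ah S (σS x)) = 0
      rw [map_sub, AlgHom.commutes]
      exact sub_self _
    have h := hI1 _ hx
    rw [map_sub, map_sub, map_sub, ← IsScalarTower.algebraMap_apply, AlgEquiv.commutes] at h
    simpa [MvPowerSeries.algebraMap_apply] using h
  have hunit : ∀ s, IsUnit (χ s) ↔ s ∉ q := fun s => by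
    rw [MvPowerSeries.isUnit_iff_constantCoeff, ← notMem_maximalIdeal, ← hτq s]
    have hσ : σS (algebraMap D S s) = τ s := by
      show σS ((1 : Ah) ⊗ₜ[A] s) = τ s
      exact (Algebra.TensorProduct.lift_tmul _ _ _ _ _).trans (by rw [map_one, one_mul])
    have h := hcc (algebraMap D S s)
    rw [hσ] at h
    refine not_congr ⟨fun (h1 : MvPowerSeries.constantCoeff (e₂ (algebraMap S (AdicCompletion I S) (algebraMap D S s))) ∈
        maximalIdeal Ah) => ?_, fun h1 => ?_⟩
    · have := sub_mem h1 h
      rwa [sub_sub_cancel] at this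
    · show MvPowerSeries.constantCoeff (e₂ (algebraMap S (AdicCompletion I S) (algebraMap D S s))) ∈ maximalIdeal Ah
      have := add_mem h h1
      rwa [sub_add_cancel] at this
  let φ : Localization.AtPrime q →+* P :=
    IsLocalization.lift (M := q.primeCompl) (S := Localization.AtPrime q) fun y => (hunit y).2 y.2
  refine ⟨Ah, inferInstance, inferInstance, inferInstance, inferInstance, d, φ, hmaxA, hdepth, ?_, fun a => ?_⟩
  · letI : Algebra (Localization.AtPrime q) P := φ.toAlgebra
    letI : Algebra D P := χ.toAlgebra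
    haveI : IsScalarTower D (Localization.AtPrime q) P :=
      IsScalarTower.of_algebraMap_eq fun x => (IsLocalization.lift_eq _ x).symm
    haveI : Module.Flat D P := hχflat
    haveI : Module.Flat (Localization.AtPrime q) P :=
      (Module.flat_iff_of_isLocalization (Localization.AtPrime q) q.primeCompl (M := P)).2 inferInstance
    haveI : IsNoetherianRing D := Algebra.FiniteType.isNoetherianRing A D
    haveI : IsLocalHom (algebraMap (Localization.AtPrime q) P) := ⟨fun z hz => by
      obtain ⟨⟨x, s⟩, hxs⟩ := IsLocalization.surj q.primeCompl z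
      have h1 : IsUnit (χ x) := by
        rw [show χ x = φ (algebraMap D (Localization.AtPrime q) x) from (IsLocalization.lift_eq _ x).symm, ← hxs,
          map_mul, IsLocalization.lift_eq]
        exact hz.mul ((hunit s).2 s.2)
      refine isUnit_of_mul_isUnit_left (hxs ▸ ?_ : IsUnit (z * algebraMap D (Localization.AtPrime q) s))
      exact IsLocalization.map_units _ (⟨x, (hunit x).1 h1⟩ : q.primeCompl)⟩
    exact Module.FaithfullyFlat.of_flat_of_isLocalHom
  · rw [IsScalarTower.algebraMap_apply A D (Localization.AtPrime q), IsLocalization.lift_eq]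
    show e₂ (algebraMap S (AdicCompletion I S) ((1 : Ah) ⊗ₜ[A] algebraMap A D a)) = _
    rw [show (1 : Ah) ⊗ₜ[A] algebraMap A D a = algebraMap Ah S (algebraMap A Ah a) by
        rw [Algebra.TensorProduct.algebraMap_apply, Algebra.algebraMap_self, RingHom.id_apply,
          Algebra.algebraMap_eq_smul_one a, ← TensorProduct.smul_tmul, ← Algebra.algebraMap_eq_smul_one],
      ← IsScalarTower.algebraMap_apply, AlgEquiv.commutes]
    simp [MvPowerSeries.algebraMap_apply]

end PurSmooth
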