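import Groth.Agent.PurSmoothLib.Model
import Groth.Agent.FEtProperLib.Pb
import Groth.Agent.S0595

/-! # Extension over regular algebras by Popescu approximation -/

set_option autoImplicit false
set_option linter.style.haveILetI false
set_option backward.isDefEq.respectTransparency false
set_option backward.isDefEq.respectTransparency.types false
set_option maxHeartbeats 1000000

universe u

open CategoryTheory CategoryTheory.Limits AlgebraicGeometry TopologicalSpace IsLocalRing

noncomputable section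

namespace PurSmooth

open FEtProper

theorem exists_finset_open {B : Type u} [CommRing B] [IsNoetherianRing B] (V : (Spec (CommRingCat.of B)).Opens) :
    ∃ G : Finset B, ∀ y : Spec (CommRingCat.of B), y ∈ V ↔ ∃ g ∈ G, g ∉ y.asIdeal := by
  obtain ⟨I, -, hI⟩ := (PrimeSpectrum.isClosed_iff_zeroLocus_radical_ideal _).1 V.2.isClosed_compl
  obtain ⟨G, hG⟩ := IsNoetherian.noetherian I
  refine ⟨G, fun y => ?_⟩
  have h : y ∉ V ↔ I ≤ y.asIdeal := (Set.ext_iff.1 hI y).trans (PrimeSpectrum.mem_zeroLocus _ _)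
  rw [← hG, Ideal.span_le, Set.subset_def] at h
  simpa using h.not

theorem extends_of_regular {A B : Type u} [CommRing A] [IsNoetherianRing A] [IsLocalRing A] [CommRing B]
    [IsNoetherianRing B] [IsLocalRing B] [Algebra A B] [IsLocalHom (algebraMap A B)]
    (hA : (2 : ℕ∞) ≤ LocCoh.depth A A) (hreg : CAlg.IsRegularHom A B) (V : (Spec (CommRingCat.of B)).Opens)
    (hV1 : ∀ y : Spec (CommRingCat.of B), y.asIdeal.comap (algebraMap A B) ≠ maximalIdeal A → y ∈ V)
    (hV2 : ∃ y : Spec (CommRingCat.of B), y ∈ V ∧ (maximalIdeal A).map (algebraMap A B) ≤ y.asIdeal)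
    (W : FEt.Cat (V : Scheme.{u})) :
    ∃ E : FEt.Cat (Spec (CommRingCat.of B)), Nonempty ((FEt.restrict V.ι).obj E ≅ W) := by
  obtain ⟨G, hG⟩ := exists_finset_open V
  let P := MvPolynomial {b // b ∈ G} A
  let ev : P →ₐ[A] B := MvPolynomial.aeval (R := A) fun b : {b // b ∈ G} => b.1
  letI : Algebra P B := ev.toRingHom.toAlgebra
  haveI : IsScalarTower A P B := IsScalarTower.of_algebraMap_eq fun a => (ev.commutes a).symm
  let U0 : (Spec (CommRingCat.of P)).Opens :=
    ⟨(⋃ b : {b // b ∈ G}, (PrimeSpectrum.basicOpen (MvPolynomial.X b : P) : Set (PrimeSpectrum P))) ∪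
      PrimeSpectrum.comap (algebraMap A P) ⁻¹' {closedPoint A}ᶜ,
      (isOpen_iUnion fun b => (PrimeSpectrum.basicOpen (MvPolynomial.X b : P)).2).union
        ((IsLocalRing.isClosed_singleton_closedPoint (R := A)).isOpen_compl.preimage (PrimeSpectrum.continuous_comap _))⟩
  have hU0B : ∀ y : Spec (CommRingCat.of B), spR P B y ∈ U0 ↔ y ∈ V := fun y => by
    refine ⟨?_, fun hy => ?_⟩
    · rintro (h | h)
      · obtain ⟨b, hb⟩ := Set.mem_iUnion.1 h
        refine (hG y).2 ⟨b.1, b.2, fun hb' => hb ?_⟩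
        show ev (MvPolynomial.X b) ∈ y.asIdeal
        rw [MvPolynomial.aeval_X]
        exact hb'
      · refine hV1 y fun hy => h (PrimeSpectrum.ext ?_)
        show (y.asIdeal.comap (algebraMap P B)).comap (algebraMap A P) = maximalIdeal A
        rw [Ideal.comap_comap, ← IsScalarTower.algebraMap_eq, hy]
    · obtain ⟨b, hb, hby⟩ := (hG y).1 hy
      refine Or.inl (Set.mem_iUnion.2 ⟨⟨b, hb⟩, fun hb' => hby ?_⟩)
      have h : ev (MvPolynomial.X ⟨b, hb⟩) ∈ y.asIdeal := hb'
      rwa [MvPolynomial.aeval_X] at h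
  haveI : QuasiCompact U0.ι := inferInstance
  -- the given cover over the open of the base change
  have hrB : Set.range (pullback.snd U0.ι (spR P B)) = Set.range V.ι := by
    rw [Scheme.Pullback.range_snd, Scheme.Opens.range_ι, Scheme.Opens.range_ι]
    exact Set.ext hU0B
  let eV := IsOpenImmersion.isoOfRangeEq (pullback.snd U0.ι (spR P B)) V.ι hrB
  have heV : eV.hom ≫ V.ι = pullback.snd U0.ι (spR P B) := IsOpenImmersion.isoOfRangeEq_hom_fac _ _ _
  haveI : IsFinite W.hom := W.prop.1
  haveI : Etale W.hom := W.prop.2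
  let v : W.left ⟶ pullback U0.ι (spR P B) := W.hom ≫ eV.inv
  obtain ⟨D, hD, Z, w, hwf, hwe, hw⟩ := exists_fg_model (f := U0.ι) B v
  haveI : Algebra.FiniteType P D := ⟨(Subalgebra.fg_top _).2 hD⟩
  haveI : Algebra.FiniteType A D := Algebra.FiniteType.trans (S := P) inferInstance inferInstance
  haveI : Algebra.FinitePresentation A D := (Algebra.FinitePresentation.of_finiteType).1 inferInstance
  obtain ⟨C, _, _, hC, g, h, hgh⟩ := Groth.Agent.S0595.result A B hreg D (D.val.restrictScalars A)
  haveI := hC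
  let q : Ideal C := (maximalIdeal B).comap h
  have hq : q.comap (algebraMap A C) = maximalIdeal A := by
    show ((maximalIdeal B).comap h.toRingHom).comap (algebraMap A C) = _
    rw [Ideal.comap_comap, show h.toRingHom.comp (algebraMap A C) = algebraMap A B from h.comp_algebraMap]
    exact ((IsLocalRing.local_hom_TFAE (algebraMap A B)).out 0 4).1 ‹IsLocalHom (algebraMap A B)›
  let R := Localization.AtPrime q
  haveI : IsNoetherianRing C := Algebra.FiniteType.isNoetherianRing A C
  haveI : IsNoetherianRing R := IsLocalization.isNoetherianRing q.primeCompl R inferInstance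
  let hR : R →+* B := IsLocalization.lift (M := q.primeCompl) (S := R) (g := h.toRingHom)
    fun y => notMem_maximalIdeal.1 y.2
  let φ₀ : D →+* R := (algebraMap C R).comp g.toRingHom
  letI : Algebra P R := (φ₀.comp (algebraMap P D)).toAlgebra
  let φ : D →ₐ[P] R := { φ₀ with commutes' := fun _ => rfl }
  have hφ : ∀ x : D, hR (φ x) = (x : B) := fun x => by
    show hR (algebraMap C R (g x)) = _
    rw [IsLocalization.lift_eq]
    exact AlgHom.congr_fun hgh x
  let hRa : R →ₐ[P] B := { hR with commutes' := fun x => (hφ (algebraMap P D x)).trans rfl }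
  haveI : IsScalarTower A P R := IsScalarTower.of_algebraMap_eq fun a => by
    show algebraMap A R a = algebraMap C R (g (algebraMap P D (algebraMap A P a)))
    rw [← IsScalarTower.algebraMap_apply A P D, AlgHom.commutes, ← IsScalarTower.algebraMap_apply]
  obtain ⟨ZR, wR, hwR⟩ := Pb.exists_pb (f := U0.ι) φ w
  haveI := hwR.isFinite
  haveI := hwR.etale
  have hRv : Pb U0.ι hRa wR v := hwR.cancel (hw.congr fun x => (hφ x).symm)
  let VR := spR P R ⁻¹ᵁ U0
  have hrR : Set.range (pullback.snd U0.ι (spR P R)) = Set.range VR.ι := by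
    rw [Scheme.Pullback.range_snd, Scheme.Opens.range_ι, Scheme.Opens.range_ι]
    rfl
  let eR := IsOpenImmersion.isoOfRangeEq (pullback.snd U0.ι (spR P R)) VR.ι hrR
  have heR : eR.hom ≫ VR.ι = pullback.snd U0.ι (spR P R) := IsOpenImmersion.isoOfRangeEq_hom_fac _ _ _
  let WR : FEt.Cat (VR : Scheme.{u}) :=
    MorphismProperty.Over.mk ⊤ (wR ≫ eR.hom) ⟨(inferInstance : IsFinite (wR ≫ eR.hom)), (inferInstance : Etale (wR ≫ eR.hom))⟩
  obtain ⟨y₀, hy₀, hy₀le⟩ := hV2
  let sR : Spec (CommRingCat.of B) ⟶ Spec (CommRingCat.of R) := Spec.map (CommRingCat.ofHom hRa.toRingHom)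
  have hsR : sR ≫ spR P R = spR P B := spec_comp hRa
  obtain ⟨ER, ⟨eER⟩⟩ := extends_of_hasPSCover (hasPSCover_of_smooth A hA C q hq) VR
    (fun y hy => Or.inr fun hc => hy (by
      have := congrArg PrimeSpectrum.asIdeal hc
      change (y.asIdeal.comap (algebraMap P R)).comap (algebraMap A P) = _ at this
      rwa [Ideal.comap_comap, ← IsScalarTower.algebraMap_eq] at this))
    ⟨sR y₀, (by
      show spR P R (sR y₀) ∈ U0
      rw [← Scheme.Hom.comp_apply, hsR]
      exact (hU0B y₀).2 hy₀), (by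
      show _ ≤ y₀.asIdeal.comap hR
      rw [Ideal.map_le_iff_le_comap, Ideal.comap_comap]
      intro a ha
      show hR (algebraMap A R a) ∈ y₀.asIdeal
      rw [IsScalarTower.algebraMap_apply A C R, IsLocalization.lift_eq]
      show h (algebraMap A C a) ∈ _
      rw [AlgHom.commutes]
      exact hy₀le (Ideal.mem_map_of_mem _ ha))⟩ WR
  obtain ⟨qv, hqv⟩ := hRv
  refine ⟨(FEt.restrict sR).obj ER, ⟨?_⟩⟩
  let k : (V : Scheme.{u}) ⟶ VR := eV.inv ≫ bc U0.ι hRa ≫ eR.hom
  have hk : V.ι ≫ sR = k ≫ VR.ι := by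
    simp only [k, Category.assoc, heR, bc_snd]
    rw [← reassoc_of% ((Iso.eq_inv_comp eV).2 heV : V.ι = eV.inv ≫ pullback.snd U0.ι (spR P B))]
  have hWk : IsPullback qv W.hom (wR ≫ eR.hom) k := by
    refine hqv.of_iso (Iso.refl _) (Iso.refl _) eV eR (by simp) (by simp [v]) (by simp) ?_
    simp [k]
  exact PunctLefLib.restrictSq hk ER ≪≫ (FEt.restrict k).mapIso eER ≪≫
    (PurityGlueLib.nonempty_iso_of_isPullback (Y := WR) (X := W) (f := k) hWk).some

end PurSmooth
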