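import Groth.Agent.PSPurityLib.Main
import Groth.Agent.PurSmoothLib.Base

/-! # Covers of opens of power series rings containing the generic point of the closed fibre -/

set_option autoImplicit false
set_option linter.style.haveILetI false
set_option linter.unusedSectionVars false
set_option backward.isDefEq.respectTransparency false
set_option backward.isDefEq.respectTransparency.types false
set_option maxHeartbeats 1000000

universe u

open CategoryTheory CategoryTheory.Limits AlgebraicGeometry TopologicalSpace IsLocalRing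

noncomputable section

namespace PurSmooth

open PSPurity

theorem powerSeries_extends (A : Type u) [CommRing A] [IsNoetherianRing A] [IsLocalRing A] (d : ℕ)
    (hA : (2 : ℕ∞) ≤ LocCoh.depth A A) (UB : (Spec (CommRingCat.of (MvPowerSeries (Fin d) A))).Opens)
    (hV1 : VA A d ≤ UB) (hV2 : (⟨genPt A d, inferInstance⟩ : PrimeSpectrum (MvPowerSeries (Fin d) A)) ∈ (UB : Set ↥(Spec (CommRingCat.of (MvPowerSeries (Fin d) A)))))
    (W : FEt.Cat (UB : Scheme.{u})) :
    ∃ E : FEt.Cat (Spec (CommRingCat.of (MvPowerSeries (Fin d) A))), Nonempty ((FEt.restrict UB.ι).obj E ≅ W) := by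
  haveI := CohenLib.isNoetherianRing_mvPowerSeries (n := d) A
  let UA := FEt.puncturedSpec A
  let V := VA A d
  let π := prj A d
  let σ := sec A d
  have hσU : UA ≤ σ ⁻¹ᵁ UB := fun a ha => hV1 (show π (σ a) ∈ UA by rw [prj_sec_apply]; exact ha)
  let σU : (UA : Scheme.{u}) ⟶ UB := σ.resLE UB UA hσU
  let W₀ : FEt.Cat (UA : Scheme.{u}) := (FEt.restrict σU).obj W
  let jV : (V : Scheme.{u}) ⟶ UB := (Spec (CommRingCat.of _)).homOfLE hV1
  let πV : (V : Scheme.{u}) ⟶ UA := π ∣_ UA
  have hπV : πV ≫ UA.ι = V.ι ≫ π := morphismRestrict_ι π UA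
  have hjV : jV ≫ UB.ι = V.ι := Scheme.homOfLE_ι _ _
  let i₀ := pullback.fst V.ι σ
  -- comparison over the preimage of the punctured spectrum
  have hi₀ : i₀ ≫ jV = (i₀ ≫ πV) ≫ σU := by
    rw [← cancel_mono UB.ι, Category.assoc, hjV, Category.assoc, Category.assoc, Scheme.Hom.resLE_comp_ι,
      reassoc_of% hπV, pullback.condition_assoc, pullback.condition]
    show _ = pullback.snd V.ι σ ≫ σ ≫ π ≫ σ
    rw [reassoc_of% (sec_prj A d : σ ≫ π = 𝟙 _)]
  have hff : (FEt.restrict i₀).Full ∧ (FEt.restrict i₀).Faithful :=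
    ClopenFFLib.full_faithful _ (clopenBij_powerSeries A d hA V fun y hy hne => by
      by_contra hyV
      exact hne (PrimeSpectrum.ext (eq_maximal_of_le A d y.isPrime (genPt_le_of_notMem A d hyV) hy)))
  obtain ⟨hfull, hfaith⟩ := hff
  let e₁ : (FEt.restrict jV).obj W ≅ (FEt.restrict πV).obj W₀ :=
    (FEt.restrict i₀).preimageIso (PunctLefLib.restrictComp i₀ jV W ≪≫ PunctLefLib.restrictCongr hi₀ W ≪≫
      (PunctLefLib.restrictComp (i₀ ≫ πV) σU W).symm ≪≫ (PunctLefLib.restrictComp i₀ πV W₀).symm)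
  -- extension over the local ring at the generic point of the closed fibre
  let R := Localization.AtPrime (genPt A d)
  haveI := flat_powerSeries A d
  have hAR : algebraMap A R = (algebraMap (MvPowerSeries (Fin d) A) R).comp MvPowerSeries.C := by
    rw [IsScalarTower.algebraMap_eq A (MvPowerSeries (Fin d) A) R]
    exact congrArg _ (RingHom.ext fun a => by simp [MvPowerSeries.algebraMap_apply])
  haveI : Module.Flat A R := Module.Flat.trans A (MvPowerSeries (Fin d) A) R
  haveI : IsLocalHom (algebraMap A R) := ⟨fun a ha => by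
    by_contra hn
    have h1 : MvPowerSeries.C a ∈ genPt A d := Ideal.mem_map_of_mem _ hn
    rw [hAR] at ha
    exact (IsLocalization.AtPrime.to_map_mem_maximal_iff R (genPt A d) _).2 h1 ha⟩
  haveI : Module.FaithfullyFlat A R := Module.FaithfullyFlat.of_flat_of_isLocalHom
  haveI : IsNoetherianRing R := IsLocalization.isNoetherianRing (genPt A d).primeCompl R inferInstance
  let ψ : Spec (CommRingCat.of R) ⟶ Spec (CommRingCat.of (MvPowerSeries (Fin d) A)) :=
    Spec.map (CommRingCat.ofHom (algebraMap (MvPowerSeries (Fin d) A) R))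
  let g : Spec (CommRingCat.of R) ⟶ Spec (CommRingCat.of A) := Spec.map (CommRingCat.ofHom (algebraMap A R))
  have hg : g = ψ ≫ π := by
    show Spec.map _ = Spec.map _ ≫ Spec.map _
    rw [← Spec.map_comp, hAR]
    rfl
  have hψ : Set.range ψ ⊆ Set.range UB.ι := by
    rintro _ ⟨q, rfl⟩
    rw [Scheme.Opens.range_ι]
    refine Specializes.mem_open ((PrimeSpectrum.le_iff_specializes (ψ q) ⟨genPt A d, inferInstance⟩).1 ?_) UB.2 hV2
    refine (Ideal.comap_mono (le_maximalIdeal q.isPrime.ne_top)).trans (le_of_eq ?_)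
    exact Localization.AtPrime.under_maximalIdeal
  let ψU : Spec (CommRingCat.of R) ⟶ UB := IsOpenImmersion.lift UB.ι ψ hψ
  have hψU : ψU ≫ UB.ι = ψ := IsOpenImmersion.lift_fac _ _ _
  let r := pullback.fst UA.ι g
  let s := pullback.snd UA.ι g
  have hlam : Set.range (s ≫ ψ) ⊆ Set.range V.ι := by
    rintro _ ⟨z, rfl⟩
    rw [Scheme.Opens.range_ι]
    show π ((s ≫ ψ) z) ∈ UA
    rw [← Scheme.Hom.comp_apply, Category.assoc, ← hg, ← pullback.condition, Scheme.Hom.comp_apply]
    exact (r z).2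
  let lam := IsOpenImmersion.lift V.ι (s ≫ ψ) hlam
  have hlam' : lam ≫ V.ι = s ≫ ψ := IsOpenImmersion.lift_fac _ _ _
  have hsq₁ : s ≫ ψU = lam ≫ jV := by
    rw [← cancel_mono UB.ι, Category.assoc, Category.assoc, hψU, hjV, hlam']
  have hsq₂ : lam ≫ πV = r := by
    rw [← cancel_mono UA.ι, Category.assoc, hπV, reassoc_of% hlam', ← hg]
    exact pullback.condition.symm
  obtain ⟨E₀, ⟨eA⟩⟩ := exists_extension_of_faithfullyFlat (Ah := R) UA
    (fun y hy => two_le_depth_of_flat hA y (comap_eq_of_notMem_puncturedSpec y hy)) W₀ ((FEt.restrict ψU).obj W)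
    (PunctLefLib.restrictSq hsq₁ W ≪≫ (FEt.restrict lam).mapIso e₁ ≪≫
      PunctLefLib.restrictComp lam πV W₀ ≪≫ PunctLefLib.restrictCongr hsq₂ W₀)
  refine ⟨(FEt.restrict π).obj E₀, ⟨?_⟩⟩
  obtain ⟨_, _⟩ := ClopenFFLib.full_faithful jV (clopenBij_of_invisible jV fun x hx => by
    rw [PunctFEtLib.depth_stalk_etale UB.ι x, PunctFEtLib.depth_stalk_spec]
    refine two_le_depth_of_genPt_le A d hA _ (genPt_le_of_notMem A d fun hxV => hx ⟨⟨UB.ι x, hxV⟩, ?_⟩)
    refine UB.ι.isOpenEmbedding.injective ?_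
    rw [← Scheme.Hom.comp_apply, hjV]
    rfl)
  have hsq₃ : jV ≫ UB.ι ≫ π = πV ≫ UA.ι := by rw [reassoc_of% hjV, hπV]
  exact (FEt.restrict jV).preimageIso ((FEt.restrict jV).mapIso (PunctLefLib.restrictComp UB.ι π E₀) ≪≫
    PunctLefLib.restrictSq hsq₃ E₀ ≪≫ (FEt.restrict πV).mapIso eA ≪≫ e₁.symm)

end PurSmooth
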