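import Groth.Agent.PurSmoothLib.Model
import Groth.Agent.DepthLib.SkStalk
import Groth.Agent.PurityGlueLib.Equiv
import Groth.Agent.PurityGlueLib.HtpDepth
import Groth.Agent.FFDescLib.Closure

/-! # Purity at the stalks of a smooth scheme over a base of depth two -/

set_option autoImplicit false
set_option linter.style.haveILetI false
set_option backward.isDefEq.respectTransparency false
set_option backward.isDefEq.respectTransparency.types false
set_option maxHeartbeats 1000000

universe u

open CategoryTheory CategoryTheory.Limits AlgebraicGeometry TopologicalSpace IsLocalRing TensorProduct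

noncomputable section

namespace PurSmooth

attribute [local instance] Algebra.TensorProduct.rightAlgebra

theorem purityHolds_of_hasPSCover {A R : Type u} [CommRing A] [IsNoetherianRing A] [IsLocalRing A] [CommRing R]
    [IsNoetherianRing R] [IsLocalRing R] [Algebra A R] [IsLocalHom (algebraMap A R)] (hc : HasPSCover A R)
    (y : PrimeSpectrum R) (hy : y ≠ closedPoint R) (hyA : (maximalIdeal A).map (algebraMap A R) ≤ y.asIdeal) :
    FEt.PurityHolds R :=
  ⟨fun W => extends_of_hasPSCover hc (FEt.puncturedSpec R)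
    (fun z hz hzc => hz (by
      rw [show z = closedPoint R from hzc]
      exact ((IsLocalRing.local_hom_TFAE (algebraMap A R)).out 0 4).1 ‹IsLocalHom (algebraMap A R)›))
    ⟨y, hy, hyA⟩ W⟩

/-- Purity for the local rings of a smooth algebra at non-generic points of fibres over depth two points. -/
theorem purityHolds_of_smooth_depth {R₀ D₀ : Type u} [CommRing R₀] [IsNoetherianRing R₀] [CommRing D₀]
    [Algebra R₀ D₀] [Algebra.Smooth R₀ D₀] (q₀ q₁ : Ideal D₀) [q₀.IsPrime] [q₁.IsPrime]
    (p₀ : Ideal R₀) [p₀.IsPrime] (hq₀ : q₀.comap (algebraMap R₀ D₀) = p₀)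
    (hq₁ : q₁.comap (algebraMap R₀ D₀) = p₀) (hlt : q₁ < q₀)
    (hd : (2 : ℕ∞) ≤ LocCoh.depth (Localization.AtPrime p₀) (Localization.AtPrime p₀)) :
    FEt.PurityHolds (Localization.AtPrime q₀) ∧
      (2 : ℕ∞) ≤ LocCoh.depth (Localization.AtPrime q₀) (Localization.AtPrime q₀) := by
  let A := Localization.AtPrime p₀
  let D := A ⊗[R₀] D₀
  let M := Algebra.algebraMapSubmonoid D₀ p₀.primeCompl
  haveI : IsLocalization M D := IsLocalization.tensorRight A p₀.primeCompl
  haveI : IsScalarTower R₀ D₀ D := Algebra.TensorProduct.right_isScalarTower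
  haveI : IsNoetherianRing A := IsLocalization.isNoetherianRing p₀.primeCompl A inferInstance
  haveI : IsNoetherianRing D := Algebra.FiniteType.isNoetherianRing A D
  have hdisj : ∀ I : Ideal D₀, I.comap (algebraMap R₀ D₀) = p₀ → Disjoint (M : Set D₀) I := fun I hI => by
    rw [Set.disjoint_left]
    rintro _ ⟨r, hr, rfl⟩ h
    exact hr (hI.le h)
  let Q₀ : Ideal D := q₀.map (algebraMap D₀ D)
  let Q₁ : Ideal D := q₁.map (algebraMap D₀ D)
  haveI : Q₀.IsPrime := IsLocalization.isPrime_of_isPrime_disjoint M D q₀ ‹_› (hdisj q₀ hq₀)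
  haveI : Q₁.IsPrime := IsLocalization.isPrime_of_isPrime_disjoint M D q₁ ‹_› (hdisj q₁ hq₁)
  have e₀ : Q₀.comap (algebraMap D₀ D) = q₀ := IsLocalization.under_map_of_isPrime_disjoint M D ‹_› (hdisj q₀ hq₀)
  have e₁ : Q₁.comap (algebraMap D₀ D) = q₁ := IsLocalization.under_map_of_isPrime_disjoint M D ‹_› (hdisj q₁ hq₁)
  have hmax : ∀ Q : Ideal D, Q.IsPrime → (Q.comap (algebraMap D₀ D)).comap (algebraMap R₀ D₀) = p₀ →
      Q.comap (algebraMap A D) = maximalIdeal A := fun Q hQ h => by
    haveI := hQ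
    refine ((maximalIdeal.isMaximal A).eq_of_le (Ideal.IsPrime.ne_top inferInstance) ?_).symm
    rw [← Localization.AtPrime.map_eq_maximalIdeal, Ideal.map_le_iff_le_comap, Ideal.comap_comap,
      ← IsScalarTower.algebraMap_eq R₀ A D, IsScalarTower.algebraMap_eq R₀ D₀ D, ← Ideal.comap_comap, h]
  have hQ₀ := hmax Q₀ inferInstance (by rw [e₀, hq₀])
  let T := Localization.AtPrime Q₀
  haveI : IsNoetherianRing T := IsLocalization.isNoetherianRing Q₀.primeCompl T inferInstance
  haveI : IsLocalHom (algebraMap A T) := ⟨fun a ha => by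
    by_contra hn
    rw [IsScalarTower.algebraMap_apply A D T] at ha
    exact (IsLocalization.AtPrime.to_map_mem_maximal_iff T Q₀ _).2 (hQ₀.ge hn :) ha⟩
  have hlt' : ¬ Q₀ ≤ Q₁ := fun h => hlt.not_ge (e₀.symm.le.trans ((Ideal.comap_mono h).trans e₁.le))
  have hle : Q₁ ≤ Q₀ := Ideal.map_mono hlt.le
  have hdisj' : Disjoint (Q₀.primeCompl : Set D) Q₁ := Set.disjoint_left.2 fun x hx h => hx (hle h)
  have eT : (Q₁.map (algebraMap D T)).comap (algebraMap D T) = Q₁ :=
    IsLocalization.under_map_of_isPrime_disjoint Q₀.primeCompl T inferInstance hdisj'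
  haveI : (Q₁.map (algebraMap D T)).IsPrime :=
    IsLocalization.isPrime_of_isPrime_disjoint Q₀.primeCompl T Q₁ inferInstance hdisj'
  have hT : FEt.PurityHolds T := by
    refine purityHolds_of_hasPSCover (hasPSCover_of_smooth A hd D Q₀ hQ₀) ⟨Q₁.map (algebraMap D T), inferInstance⟩
      (fun h => hlt' ?_) ?_
    · have h' : Q₁.map (algebraMap D T) = maximalIdeal T := congrArg PrimeSpectrum.asIdeal h
      rw [← eT, h']
      exact (Localization.AtPrime.under_maximalIdeal (I := Q₀)).ge
    · show _ ≤ Q₁.map (algebraMap D T)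
      rw [IsScalarTower.algebraMap_eq A D T, ← Ideal.map_map]
      refine Ideal.map_mono (Ideal.map_le_iff_le_comap.2 ?_)
      exact (hmax Q₁ inferInstance (by rw [e₁, hq₁])).ge
  have hdT : (2 : ℕ∞) ≤ LocCoh.depth T T := two_le_depth_of_flat hd ⟨Q₀, inferInstance⟩ hQ₀
  have hloc : IsLocalization.AtPrime T q₀ := by
    have key : ∀ (I : Ideal D₀) [I.IsPrime], I = q₀ → IsLocalization.AtPrime T I → IsLocalization.AtPrime T q₀ := by
      intro I _ hI h
      subst hI
      exact h
    exact key _ e₀ (IsLocalization.isLocalization_isLocalization_atPrime_isLocalization M T Q₀)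
  haveI : IsNoetherianRing D₀ := Algebra.FiniteType.isNoetherianRing R₀ D₀
  haveI : IsNoetherianRing (Localization.AtPrime q₀) := IsLocalization.isNoetherianRing q₀.primeCompl _ inferInstance
  haveI := hloc
  let e : T ≃+* Localization.AtPrime q₀ := (IsLocalization.algEquiv q₀.primeCompl T (Localization.AtPrime q₀)).toRingEquiv
  exact ⟨PurityGlueLib.purityHolds_of_ringEquiv e hT, (DepthLib.depth_congr_ringEquiv (R := T) (S := Localization.AtPrime q₀) e) ▸ hdT⟩

end PurSmooth
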